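import Groth.Agent.TorsLib.H1

universe u

open CategoryTheory CategoryTheory.Limits Opposite

namespace Groth.Agent.TorsLib

variable {C : Type u} [SmallCategory C] {J : GrothendieckTopology C}
variable {G : Sheaf J AddCommGrpCat.{u}}

/-- The sieve of maps from objects where the torsor has a section. -/
def nonemptySieve (T : Tors.Torsor G) (U : C) : Sieve U where
  arrows V f := Nonempty (T.P.obj.obj (op V))
  downward_closed := fun h g => h.map (T.P.obj.map g.op)

lemma nonemptySieve_mem (T : Tors.Torsor G) (U : C) : nonemptySieve T U ∈ J U := by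
  obtain ⟨S, hS, h⟩ := T.locally_nonempty U
  exact J.superset_covering (fun V f hf => h f hf) hS

/-- A compatible family given where the torsor has sections extends to all objects. -/
lemma glue (T : Tors.Torsor G) (F : Sheaf J (Type u))
    (v : ∀ U : Cᵒᵖ, Nonempty (T.P.obj.obj U) → F.obj.obj U)
    (hv : ∀ {U V : Cᵒᵖ} (f : U ⟶ V) (hU : Nonempty (T.P.obj.obj U)) (hV : Nonempty (T.P.obj.obj V)),
      F.obj.map f (v U hU) = v V hV) :
    ∃ w : ∀ U, F.obj.obj U, (∀ {U V : Cᵒᵖ} (f : U ⟶ V), F.obj.map f (w U) = w V) ∧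
      ∀ U (hU : Nonempty (T.P.obj.obj U)), w U = v U hU := by
  have hF := (isSheaf_iff_isSheaf_of_type J F.obj).mp F.property
  have key : ∀ U : C, ∃! w : F.obj.obj (op U), ∀ ⦃V : C⦄ (f : V ⟶ U) (h : nonemptySieve T U f),
      F.obj.map f.op w = v (op V) h := by
    intro U
    exact hF _ (nonemptySieve_mem T U) (fun V f h => v (op V) h)
      (by
        intro Y₁ Y₂ Z g₁ g₂ f₁ f₂ h₁ h₂ _
        have hZ : Nonempty (T.P.obj.obj (op Z)) := Nonempty.map (T.P.obj.map g₁.op) h₁
        rw [hv g₁.op h₁ hZ, hv g₂.op h₂ hZ])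
  choose w hw hu using key
  refine ⟨fun U => w U.unop, fun {U V} f => hu _ _ fun W g h => ?_, fun U hU => ?_⟩
  · have h' := hw U.unop (g ≫ f.unop) (show nonemptySieve T U.unop (g ≫ f.unop) from h)
    rw [op_comp, Functor.map_comp] at h'
    exact h'
  · have := hw U.unop (𝟙 _) (show nonemptySieve T U.unop (𝟙 _) from hU)
    simpa using this

section Forward

variable (T : Tors.Torsor G)

/-- The difference of two sections of a torsor. -/
noncomputable def diff {U : Cᵒᵖ} (p q : T.P.obj.obj U) : G.obj.obj U :=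
  (T.free_transitive p q).choose

lemma diff_vadd {U : Cᵒᵖ} (p q : T.P.obj.obj U) : T.vadd (diff T p q) p = q :=
  (T.free_transitive p q).choose_spec.1

lemma eq_diff {U : Cᵒᵖ} {p q : T.P.obj.obj U} {g : G.obj.obj U} (h : T.vadd g p = q) : diff T p q = g :=
  ((T.free_transitive p q).unique h (diff_vadd T p q)).symm

lemma diff_add {U : Cᵒᵖ} (p q r : T.P.obj.obj U) : diff T p r = diff T q r + diff T p q :=
  eq_diff T (by rw [T.add_vadd, diff_vadd, diff_vadd])

lemma map_diff {U V : Cᵒᵖ} (f : U ⟶ V) (p q : T.P.obj.obj U) :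
    G.obj.map f (diff T p q) = diff T (T.P.obj.map f p) (T.P.obj.map f q) :=
  (eq_diff T (by rw [← T.map_vadd, diff_vadd])).symm

/-- The free abelian presheaf on the torsor. -/
noncomputable def free : Cᵒᵖ ⥤ AddCommGrpCat.{u} where
  obj U := AddCommGrpCat.of (T.P.obj.obj U →₀ ℤ)
  map f := AddCommGrpCat.ofHom (Finsupp.mapDomain.addMonoidHom (T.P.obj.map f))
  map_id U := by ext x; simp
  map_comp f g := by
    refine AddCommGrpCat.ext fun (x : T.P.obj.obj _ →₀ ℤ) => ?_
    show Finsupp.mapDomain (fun p => T.P.obj.map (f ≫ g) p) x = _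
    rw [show (fun p => T.P.obj.map (f ≫ g) p) = (fun p => T.P.obj.map g p) ∘ (fun p => T.P.obj.map f p)
      from funext fun p => by simp, Finsupp.mapDomain_comp]
    rfl

noncomputable def deg (U : Cᵒᵖ) : (T.P.obj.obj U →₀ ℤ) →+ ℤ :=
  Finsupp.liftAddHom fun _ => AddMonoidHom.id ℤ

noncomputable def D {U : Cᵒᵖ} (q : T.P.obj.obj U) : (T.P.obj.obj U →₀ ℤ) →+ G.obj.obj U :=
  Finsupp.liftAddHom fun p => zmultiplesHom _ (diff T q p)

lemma deg_map {U V : Cᵒᵖ} (f : U ⟶ V) (x : T.P.obj.obj U →₀ ℤ) :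
    deg T V (Finsupp.mapDomain (T.P.obj.map f) x) = deg T U x := by
  induction x using Finsupp.induction_linear with
  | zero => simp
  | add x y hx hy => simp [Finsupp.mapDomain_add, hx, hy]
  | single p n => simp [deg]

lemma D_change {U : Cᵒᵖ} (q q' : T.P.obj.obj U) (x : T.P.obj.obj U →₀ ℤ) :
    D T q x = D T q' x + deg T U x • diff T q q' := by
  induction x using Finsupp.induction_linear with
  | zero => simp
  | add x y hx hy => simp only [map_add, hx, hy, add_zsmul]; abel
  | single p n => simp [D, deg, diff_add T q q' p]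

lemma D_map {U V : Cᵒᵖ} (f : U ⟶ V) (q : T.P.obj.obj U) (x : T.P.obj.obj U →₀ ℤ) :
    D T (T.P.obj.map f q) (Finsupp.mapDomain (T.P.obj.map f) x) = G.obj.map f (D T q x) := by
  induction x using Finsupp.induction_linear with
  | zero => simp
  | add x y hx hy => simp [Finsupp.mapDomain_add, hx, hy]
  | single p n => simp [D, map_diff]

/-- The degree zero part. -/
noncomputable def free0 : Cᵒᵖ ⥤ AddCommGrpCat.{u} where
  obj U := AddCommGrpCat.of (deg T U).ker
  map {U V} f := AddCommGrpCat.ofHom <|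
    ((Finsupp.mapDomain.addMonoidHom (T.P.obj.map f)).comp (deg T U).ker.subtype).codRestrict _
      fun x => (deg_map T f _).trans x.2
  map_id U := AddCommGrpCat.ext fun (x : (deg T U).ker) =>
    Subtype.ext (by exact ConcreteCategory.congr_hom ((free T).map_id U) x.1)
  map_comp {U V W} f g := AddCommGrpCat.ext fun (x : (deg T U).ker) =>
    Subtype.ext (by exact ConcreteCategory.congr_hom ((free T).map_comp f g) x.1)

noncomputable def incl : free0 T ⟶ free T where
  app U := AddCommGrpCat.ofHom (deg T U).ker.subtype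

open Classical in
noncomputable def δ0 (U : Cᵒᵖ) : (deg T U).ker →+ G.obj.obj U :=
  if h : Nonempty (T.P.obj.obj U) then (D T h.some).comp (deg T U).ker.subtype else 0

lemma δ0_eq {U : Cᵒᵖ} (q : T.P.obj.obj U) (x : (deg T U).ker) : δ0 T U x = D T q x.1 := by
  simp only [δ0, dif_pos (show Nonempty (T.P.obj.obj U) from ⟨q⟩)]
  show D T _ x.1 = _
  rw [D_change T _ q, show deg T U x.1 = 0 from x.2, zero_smul, add_zero]

noncomputable def δ : free0 T ⟶ G.obj where
  app U := AddCommGrpCat.ofHom (δ0 T U)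
  naturality {U V} f := by
    refine AddCommGrpCat.ext fun (x : (deg T U).ker) => ?_
    show δ0 T V ⟨Finsupp.mapDomain (T.P.obj.map f) x.1, _⟩ = G.obj.map f (δ0 T U x)
    by_cases h : Nonempty (T.P.obj.obj U)
    · obtain ⟨q⟩ := h
      rw [δ0_eq T (T.P.obj.map f q), δ0_eq T q, D_map]
    · haveI : IsEmpty (T.P.obj.obj U) := not_nonempty_iff.mp h
      have hx : x = 0 := Subtype.ext (Subsingleton.elim _ _)
      subst hx
      show δ0 T V ⟨Finsupp.mapDomain (T.P.obj.map f) (0 : T.P.obj.obj U →₀ ℤ), _⟩ =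
        G.obj.map f (δ0 T U (0 : (deg T U).ker))
      simp only [Finsupp.mapDomain_zero, map_zero]
      exact map_zero _

end Forward

theorem hasSection_of_lift (T : Tors.Torsor G) {S : ShortComplex (Sheaf J AddCommGrpCat.{u})}
    (hS : S.ShortExact) (e : S.X₁ = G) [Injective S.X₂]
    (h : ∀ s : GS S.X₃.obj, ∃ t : GS S.X₂.obj, ∀ U, S.g.hom.app U (t.val U) = s.val U) :
    T.HasSection := by
  subst e
  haveI : Injective S.X₂.obj := Injective.injective_of_adjoint (sheafificationAdjunction J AddCommGrpCat.{u}) S.X₂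
  haveI : ∀ U, Mono ((incl T).app U) := fun U =>
    (AddCommGrpCat.mono_iff_injective _).mpr Subtype.val_injective
  haveI : Mono (incl T) := NatTrans.mono_of_mono_app _
  let Φ := Injective.factorThru (δ T ≫ S.f.hom) (incl T)
  have hΦ : incl T ≫ Φ = δ T ≫ S.f.hom := Injective.comp_factorThru _ _
  let φ : ∀ U, T.P.obj.obj U → S.X₂.obj.obj U := fun U p => Φ.app U (Finsupp.single p 1)
  have hequiv : ∀ U g p, φ U (T.vadd g p) = S.f.hom.app U g + φ U p := by
    intro U g p
    have hx : (Finsupp.single (T.vadd g p) 1 - Finsupp.single p 1 : T.P.obj.obj U →₀ ℤ) ∈ (deg T U).ker := by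
      rw [AddMonoidHom.mem_ker, map_sub]
      simp [deg]
    have h1 : Φ.app U (Finsupp.single (T.vadd g p) 1 - Finsupp.single p 1) = S.f.hom.app U (δ0 T U ⟨_, hx⟩) :=
      ConcreteCategory.congr_hom (NatTrans.congr_app hΦ U) (⟨_, hx⟩ : (deg T U).ker)
    have h2 : δ0 T U ⟨_, hx⟩ = g := by
      rw [δ0_eq T p, map_sub]
      simp [D, eq_diff T (T.zero_vadd p), eq_diff T (rfl : T.vadd g p = _)]
    rw [h2] at h1
    have h3 := map_sub (Φ.app U).hom (Finsupp.single (T.vadd g p) 1) (Finsupp.single p 1)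
    exact sub_eq_iff_eq_add.mp (h3.symm.trans h1)
  have hnat : ∀ {U V : Cᵒᵖ} (f : U ⟶ V) p, S.X₂.obj.map f (φ U p) = φ V (T.P.obj.map f p) := fun f p => by
    refine (NatTrans.naturality_apply Φ f (Finsupp.single p 1)).symm.trans ?_
    exact congrArg _ Finsupp.mapDomain_single
  have hgf : ∀ U g, S.g.hom.app U (S.f.hom.app U g) = 0 := fun U g =>
    ConcreteCategory.congr_hom (NatTrans.congr_app (congrArg (fun φ : S.X₁ ⟶ S.X₃ => φ.hom) S.zero) U) g
  have hconst : ∀ U p q, S.g.hom.app U (φ U p) = S.g.hom.app U (φ U q) := fun U p q => by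
    rw [← diff_vadd T q p, hequiv, map_add, hgf, zero_add]
  obtain ⟨w, hw, hwv⟩ := glue T ((sheafCompose J (forget AddCommGrpCat.{u})).obj S.X₃)
    (fun U hU => S.g.hom.app U (φ U hU.some))
    (fun {U V} f hU hV => ((NatTrans.naturality_apply S.g.hom f (φ U hU.some)).symm.trans
      (congrArg (S.g.hom.app V) (hnat f _))).trans (hconst V _ _))
  obtain ⟨t, ht⟩ := h ⟨w, fun f => hw f⟩
  have hg : ∀ U p, ∃ g, S.f.hom.app U g = φ U p - t.val U := fun U p => by
    refine exists_of_app_eq_zero hS U _ ?_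
    rw [map_sub, ht]
    exact sub_eq_zero.mpr ((hconst U p _).trans (hwv U ⟨p⟩).symm)
  choose g hg using hg
  let v : ∀ U, Nonempty (T.P.obj.obj U) → T.P.obj.obj U := fun U h => T.vadd (-g U h.some) h.some
  have hv0 : ∀ U h, φ U (v U h) = t.val U := fun U h => by
    rw [hequiv, map_neg, hg]; abel
  have hφinj : ∀ U, Function.Injective (φ U) := fun U p q hpq => by
    have := hequiv U (diff T p q) p
    rw [diff_vadd, hpq] at this
    have h0 : diff T p q = 0 := injective_app hS U (by rw [map_zero]; exact add_eq_right.mp this.symm)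
    rw [← diff_vadd T p q, h0, T.zero_vadd]
  obtain ⟨σ, hσ, -⟩ := glue T T.P v (fun {U V} f hU hV => hφinj V (by rw [← hnat, hv0, hv0, t.compat]))
  exact ⟨⟨{ app := fun U => TypeCat.ofHom fun _ => σ U, naturality := fun U V f => by ext; exact (hσ f).symm }⟩⟩

section Backward

variable {S : ShortComplex (Sheaf J AddCommGrpCat.{u})} (hS : S.ShortExact) (s : GS S.X₃.obj)

/-- The presheaf of local lifts of `s`. -/
def lifts : Cᵒᵖ ⥤ Type u where
  obj U := {x : S.X₂.obj.obj U // S.g.hom.app U x = s.val U}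
  map {U V} f := TypeCat.ofHom fun x => ⟨S.X₂.obj.map f x.1,
    (NatTrans.naturality_apply S.g.hom f x.1).trans ((congrArg _ x.2).trans (s.compat f))⟩
  map_id U := by
    ext x
    show S.X₂.obj.map (𝟙 U) x.1 = x.1
    simp
  map_comp f g := by
    ext x
    show S.X₂.obj.map (f ≫ g) x.1 = S.X₂.obj.map g (S.X₂.obj.map f x.1)
    simp

lemma lifts_isSheaf : Presheaf.IsSheaf J (lifts s) := by
  rw [isSheaf_iff_isSheaf_of_type]
  intro X R hR x hx
  have h2 := (isSheaf_iff_isSheaf_of_type J _).mp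
    ((sheafCompose J (forget AddCommGrpCat.{u})).obj S.X₂).property _ hR
  have h3 := (isSheaf_iff_isSheaf_of_type J _).mp
    ((sheafCompose J (forget AddCommGrpCat.{u})).obj S.X₃).property _ hR
  obtain ⟨y, hy, hu⟩ := h2 (fun V f hf => (x f hf).1)
    (fun _ _ _ g₁ g₂ f₁ f₂ h₁ h₂ e => congrArg Subtype.val (hx g₁ g₂ h₁ h₂ e))
  refine ⟨⟨y, h3.isSeparatedFor.ext fun V f hf => ?_⟩, fun V f hf => Subtype.ext (hy f hf),
    fun z hz => Subtype.ext (hu z.1 fun V f hf => congrArg Subtype.val (hz f hf))⟩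
  exact ((NatTrans.naturality_apply S.g.hom f.op y).symm.trans
    ((congrArg _ (hy f hf)).trans (x f hf).2)).trans (s.compat f.op).symm

include hS in
theorem lift_of_hasSection (h : ∀ T : Tors.Torsor S.X₁, T.HasSection) :
    ∃ t : GS S.X₂.obj, ∀ U, S.g.hom.app U (t.val U) = s.val U := by
  have hgf : ∀ U g, S.g.hom.app U (S.f.hom.app U g) = 0 := fun U g =>
    ConcreteCategory.congr_hom (NatTrans.congr_app (congrArg (fun φ : S.X₁ ⟶ S.X₃ => φ.hom) S.zero) U) g
  haveI := hS.epi_g
  have hls : Sheaf.IsLocallySurjective S.g := (Sheaf.isLocallySurjective_iff_epi' _ _).mpr inferInstance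
  let T : Tors.Torsor S.X₁ :=
    { P := ⟨lifts s, lifts_isSheaf s⟩
      vadd := fun {U} g p => (⟨S.f.hom.app U g + p.1, by rw [map_add, hgf, zero_add]; exact p.2⟩ :
        {x : S.X₂.obj.obj U // S.g.hom.app U x = s.val U})
      zero_vadd := fun p => Subtype.ext (show S.f.hom.app _ 0 + p.1 = p.1 by rw [map_zero, zero_add])
      add_vadd := fun g h p => Subtype.ext (show S.f.hom.app _ (g + h) + p.1 = S.f.hom.app _ g + (S.f.hom.app _ h + p.1) by
        rw [map_add, add_assoc])
      map_vadd := fun f g p => Subtype.ext (show S.X₂.obj.map f (S.f.hom.app _ g + p.1) = S.f.hom.app _ (S.X₁.obj.map f g) + S.X₂.obj.map f p.1 by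
        rw [map_add, NatTrans.naturality_apply])
      free_transitive := fun {U} p q => by
        obtain ⟨g, hg⟩ := exists_of_app_eq_zero hS U (q.1 - p.1) (by rw [map_sub, p.2, q.2, sub_self])
        exact ⟨g, Subtype.ext (show S.f.hom.app U g + p.1 = q.1 by rw [hg, sub_add_cancel]),
          fun g' hg' => injective_app hS U (by
            rw [hg]; exact eq_sub_iff_add_eq.mpr (congrArg Subtype.val hg'))⟩
      locally_nonempty := fun U => ⟨_, hls.imageSieve_mem (s.val (op U)), fun V f ⟨x, hx⟩ =>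
        ⟨⟨x, hx.trans (s.compat f.op)⟩⟩⟩ }
  obtain ⟨σ⟩ := h T
  let K : Sheaf J (Type u) := ⟨(Functor.const Cᵒᵖ).obj PUnit.{u+1}, by
    rw [isSheaf_iff_isSheaf_of_type]
    intro X S hS x hx
    exact ⟨PUnit.unit, fun _ _ _ => rfl, fun _ _ => rfl⟩⟩
  let τ : K ⟶ T.P := terminal.from K ≫ σ
  exact ⟨⟨fun U => (τ.hom.app U (PUnit.unit : PUnit.{u+1})).1, fun f => by
    have h1 := congrArg Subtype.val (NatTrans.naturality_apply τ.hom f (PUnit.unit : PUnit.{u+1}))
    exact h1.symm⟩,
    fun U => (τ.hom.app U PUnit.unit).2⟩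

end Backward

end Groth.Agent.TorsLib
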