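import Groth.Prelude.Def_Tors
import Groth.Agent.SiteBase.Cohom

universe u

open CategoryTheory CategoryTheory.Limits Opposite Abelian

namespace Groth.Agent.TorsLib

variable {C : Type u} [SmallCategory C] {J : GrothendieckTopology C}

/-- The constant sheaf `ℤ`. -/
noncomputable abbrev cZ (J : GrothendieckTopology C) : Sheaf J AddCommGrpCat.{u} :=
  (constantSheaf J AddCommGrpCat.{u}).obj (AddCommGrpCat.of (ULift.{u} ℤ))

/-- A compatible family of sections. -/
structure GS (F : Cᵒᵖ ⥤ AddCommGrpCat.{u}) where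
  val : ∀ U, F.obj U
  compat : ∀ {U V : Cᵒᵖ} (f : U ⟶ V), F.map f (val U) = val V

noncomputable def gsOfHom {F : Sheaf J AddCommGrpCat.{u}} (φ : (cZ J) ⟶ F) : GS F.obj :=
  let ψ := (sheafificationAdjunction J AddCommGrpCat.{u}).homEquiv _ F φ
  { val := fun U => ψ.app U ⟨1⟩
    compat := fun f => (ConcreteCategory.congr_hom (ψ.naturality f) _).symm }

lemma gsOfHom_comp {F G : Sheaf J AddCommGrpCat.{u}} (φ : (cZ J) ⟶ F) (g : F ⟶ G) (U : Cᵒᵖ) :
    (gsOfHom (φ ≫ g)).val U = g.hom.app U ((gsOfHom φ).val U) := by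
  simp only [gsOfHom]
  erw [Adjunction.homEquiv_naturality_right]
  rfl

lemma gsOfHom_surjective {F : Sheaf J AddCommGrpCat.{u}} (s : GS F.obj) :
    ∃ φ : (cZ J) ⟶ F, ∀ U, (gsOfHom φ).val U = s.val U := by
  let ψ : (Functor.const Cᵒᵖ).obj (AddCommGrpCat.of (ULift.{u} ℤ)) ⟶ F.obj :=
    { app := fun U => AddCommGrpCat.ofHom
        { toFun := fun n => n.down • s.val U
          map_zero' := by simp
          map_add' := fun a b => by simp [add_smul] }
      naturality := fun U V f => by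
        ext n
        show n.down • s.val V = F.obj.map f (n.down • s.val U)
        rw [map_zsmul, s.compat] }
  refine ⟨((sheafificationAdjunction J AddCommGrpCat.{u}).homEquiv _ F).symm ψ, fun U => ?_⟩
  simp only [gsOfHom]
  erw [Equiv.apply_symm_apply]
  exact one_zsmul _

lemma gsOfHom_ext {F : Sheaf J AddCommGrpCat.{u}} {φ φ' : (cZ J) ⟶ F}
    (h : ∀ U, (gsOfHom φ).val U = (gsOfHom φ').val U) : φ = φ' := by
  apply ((sheafificationAdjunction J AddCommGrpCat.{u}).homEquiv _ F).injective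
  ext U n
  have key : ∀ χ : (cZ J) ⟶ F, ((sheafificationAdjunction J AddCommGrpCat.{u}).homEquiv _ F χ).app U n
      = n.down • (gsOfHom χ).val U := fun χ => by
    refine Eq.trans ?_ (map_zsmul (((sheafificationAdjunction J AddCommGrpCat.{u}).homEquiv _ F χ).app U).hom
      n.down ⟨1⟩)
    congr 1
    show n = n.down • (⟨1⟩ : ULift.{u} ℤ)
    exact ULift.ext _ _ (by simp)
  exact (key φ).trans ((congrArg _ (h U)).trans (key φ').symm)

variable {S : ShortComplex (Sheaf J AddCommGrpCat.{u})} (hS : S.ShortExact)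
include hS

lemma injective_app (U : Cᵒᵖ) : Function.Injective (S.f.hom.app U) := by
  haveI := hS.mono_f
  let F := sheafToPresheaf J AddCommGrpCat.{u} ⋙ (evaluation _ _).obj U
  exact (AddCommGrpCat.mono_iff_injective _).mp (inferInstanceAs (Mono (F.map S.f)))

lemma exists_of_app_eq_zero (U : Cᵒᵖ) (x : S.X₂.obj.obj U) (hx : S.g.hom.app U x = 0) :
    ∃ y, S.f.hom.app U y = x := by
  let F := sheafToPresheaf J AddCommGrpCat.{u} ⋙ (evaluation _ _).obj U
  haveI : (sheafToPresheaf J AddCommGrpCat.{u}).PreservesZeroMorphisms := ⟨fun _ _ => rfl⟩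
  haveI : F.PreservesZeroMorphisms := ⟨fun _ _ => rfl⟩
  have hlim := KernelFork.mapIsLimit (KernelFork.ofι S.f S.zero) hS.fIsKernel F
  have hex : (S.map F).Exact := ShortComplex.exact_of_f_is_kernel _
    (IsLimit.ofIsoLimit hlim (Fork.ext (Iso.refl _) (by exact (Category.id_comp _))))
  exact (ShortComplex.ab_exact_iff _).mp hex x hx

lemma subsingleton_H1_iff [Injective S.X₂] :
    Subsingleton (Sheaf.H S.X₁ 1) ↔
      ∀ s : GS S.X₃.obj, ∃ t : GS S.X₂.obj, ∀ U, S.g.hom.app U (t.val U) = s.val U := by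
  constructor
  · intro h s
    obtain ⟨φ, hφ⟩ := gsOfHom_surjective s
    obtain ⟨y, hy⟩ := Ext.covariant_sequence_exact₃ (cZ J) hS (Ext.mk₀ φ) (n₁ := 1) rfl (h.elim _ _)
    obtain ⟨ψ, rfl⟩ := (Ext.mk₀_bijective (cZ J) S.X₂).2 y
    rw [Ext.mk₀_comp_mk₀] at hy
    refine ⟨gsOfHom ψ, fun U => ?_⟩
    rw [← gsOfHom_comp, (Ext.mk₀_bijective _ _).1 hy, hφ]
  · intro h
    refine subsingleton_of_forall_eq 0 fun (x : Ext (cZ J) S.X₁ 1) => ?_
    obtain ⟨y, rfl⟩ := Ext.covariant_sequence_exact₁ (cZ J) hS x (Ext.eq_zero_of_injective _) (n₀ := 0) rfl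
    obtain ⟨φ, rfl⟩ := (Ext.mk₀_bijective (cZ J) S.X₃).2 y
    obtain ⟨t, ht⟩ := h (gsOfHom φ)
    obtain ⟨ψ, hψ⟩ := gsOfHom_surjective t
    have hφ : φ = ψ ≫ S.g := gsOfHom_ext fun U => by rw [gsOfHom_comp, hψ, ht]
    rw [hφ, ← Ext.mk₀_comp_mk₀, Ext.comp_assoc_of_second_deg_zero, hS.comp_extClass, Ext.comp_zero]

end Groth.Agent.TorsLib
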